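import Cfsg.Agent.FusC.SC
import Cfsg.Agent.Fus.Ctl
import Cfsg.Agent.PGrp.Meta2

/-! Strongly closed metacyclic subgroups are normal (`normal_of_meta_odd`, `normal_of_meta_two`). -/

set_option autoImplicit false

namespace Cfsg.Agent.Fus

open Subgroup Cfsg.Agent.Loc Equiv Cfsg.Agent.ABG
open scoped commutatorElement
open Cfsg.FusionSystem (normalizerIn centralizerIn)
open Cfsg.Agent.Invol hiding orderOf_conj'

variable {Ω : Type*} [Group Ω] {S T R P : Subgroup Ω} {F : FusionSystem S} {p : ℕ}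

theorem meta_mono (h : IsMetacyclic T) (hR : R ≤ T) : IsMetacyclic R := BG4.metacyclic_sub hR h

theorem eq_of_lt_of_card [Fact p.Prime] {A B C : Subgroup Ω} (hC : Nat.card C = p ^ 2) (h0 : A ≠ ⊥) (hAB : A ≤ B)
    (h : B < C) : A = B := by
  have hp := (Fact.out : p.Prime)
  have : Finite C := Nat.finite_of_card_ne_zero (hC ▸ pow_ne_zero 2 hp.ne_zero)
  have := finite_of_le h.le
  have := finite_of_le hAB
  obtain ⟨i, -, hi⟩ := (Nat.dvd_prime_pow hp).1 (hC ▸ card_dvd_of_le h.le)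
  obtain ⟨j, -, hj⟩ := (Nat.dvd_prime_pow hp).1 (hC ▸ card_dvd_of_le (hAB.trans h.le))
  have h1 := (Nat.pow_lt_pow_iff_right hp.one_lt).1 (hi ▸ hC ▸ card_lt_card h)
  have h2 : j ≠ 0 := fun e => h0 (card_eq_one.1 (by rw [hj, e, pow_zero]))
  exact eq_of_le_of_card_le hAB (hi ▸ hj ▸ Nat.pow_le_pow_right hp.pos (by omega))

variable [Finite S]

theorem normal_of_meta_two (hF : Sat F 2) (hT : F.StronglyClosed T) (hm : IsMetacyclic T) (h : ¬ PGrp.IsMC T) :
    F.IsNormal T := by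
  refine hF.normal_of_rad hT fun R hR => ?_
  have hRS := hR.le_S
  have hRT := hR.lt.le
  have := finite_of_le hRS
  have := finite_of_le hT.1
  have := finite_AutF' F hRS
  have hTp := hF.pg.to_le hT.1
  obtain ⟨_, ⟨γ, -, rfl⟩, ho, x, hx, hne⟩ : ∃ a ∈ AutF F R, (orderOf a).Coprime 2 ∧ ∃ x ∈ R, a x ≠ x := by
    by_contra! k
    exact hR.not_pact ((pact_bot hRS hT.1).upgrade fun a ha ho _ => k a ha ho)
  rw [orderOf_toPerm] at ho
  obtain ⟨hab, v, Tv⟩ | ⟨hmc, -⟩ := meta_odd' (hF.pg.to_le hRS) (meta_mono hm hRT) (oddEnd_of_mulAut (Nat.coprime_two_right.1 ho))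
    ⟨⟨x, hx⟩, fun e => hne ((toPerm_apply γ hx).trans (congrArg Subtype.val e))⟩
  swap
  · exact h (PGrp.IsMC.of_sectional hTp (sectional_of_meta two_pos hm) (hmc.of_mulEquiv (subgroupOfEquivOfLe hRT).symm))
  have hc : R ≤ centralizer (R : Set Ω) := fun x hx y hy => congrArg Subtype.val (hab ⟨y, hy⟩ trivial ⟨x, hx⟩ trivial)
  obtain ⟨z, ⟨hzT, hzc⟩, hz1, hz2⟩ := exists_pow_eq_one_of_isPGroup (hTp.to_le inf_le_left) (center_ne_bot hTp hR.lt.ne_bot)
  have hz : z ∈ R := hR.CS_le ⟨hzT, fun y hy => hzc y (hRT hy)⟩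
  have Tz := Tv.of_ne (x := ⟨z, hz⟩) (Subtype.ext ((pow_two z).symm.trans hz2)) fun e => hz1 (congrArg Subtype.val e)
  obtain ⟨w, hw, hwe⟩ : ∃ w, ∃ hw : w ∈ R, γ ⟨z, hz⟩ = ⟨w, hw⟩ := ⟨_, _, rfl⟩
  have hV : ∀ v ∈ R, v * v = 1 → v = 1 ∨ v = z ∨ v = w ∨ v = z * w := fun v hv e => by
    simpa [Subtype.ext_iff, hwe] using Tz.cases ⟨v, hv⟩ (Subtype.ext e)
  have hw2 : w * w = 1 := congrArg Subtype.val (hwe ▸ Tz.sq')
  have hw1 : w ≠ 1 := fun e => Tz.next.ne_one (hwe ▸ Subtype.ext e)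
  have hwz : w ≠ z := fun e => Tz.ne (hwe ▸ Subtype.ext e)
  have hz1 : ∀ t ∈ T, t * z * t⁻¹ = z := fun t ht => by rw [hzc t ht, mul_inv_cancel_right]
  have hN : ∀ t ∈ T, t * w * t⁻¹ = w → ∀ v ∈ R, v * v = 1 → t * v * t⁻¹ = v := fun t ht e v hv k => by
    rcases hV v hv k with rfl | rfl | rfl | rfl
    exacts [by group, hz1 t ht, e, by rw [← conj_mul, hz1 t ht, e]]
  have hX : normalizerIn T R ⊓ centralizer (omegaOne 2 R : Set Ω) ≤ S := inf_le_left.trans ((NS_le _ _).trans hT.1)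
  have key := hR.le_of_pact inf_le_left ((pact_step hF.pg hRS hX bot_le (AutF_le_Stab_inf hRS (sc_bot F))
    (fun a ha => (maps_of_AutF ha).inf ((homOn_of_AutF ha).maps_omega (maps_of_AutF ha)))
    (commutator_le_of_le_centralizer inf_le_right _) (pact_bot hRS hX)).upgrade (by
      rintro _ ⟨γ, -, rfl⟩ ho e c hc
      rw [orderOf_toPerm] at ho
      rw [toPerm_apply γ hc]
      exact congrArg Subtype.val (fix_of_comm Tv.pg hab (oddEnd_of_mulAut (Nat.coprime_two_right.1 ho))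
        (fun _ _ => trivial) (fun v _ k => Subtype.ext ((toPerm_coe γ v).symm.trans
          (e v ⟨v.2, mem_omegaOne v.2 ((pow_two _).trans (congrArg Subtype.val k))⟩))) trivial)))
  have key' : ∀ t ∈ normalizerIn T R, t * w * t⁻¹ = w → t ∈ R := fun t ht e => key ⟨ht, fun v hv =>
    have k := (mem_omegaOne_iff hc).1 hv
    (mul_inv_eq_iff_eq_mul.1 (hN t ht.1 e v k.1 ((pow_two v).symm.trans k.2))).symm⟩
  have mv : ∀ t ∈ normalizerIn T R, t ∉ R → t * w * t⁻¹ = z * w := fun t ht h => by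
    rcases hV _ ((mem_normalizer_iff.1 ht.2 _).1 hw) (by rw [conj_mul, hw2]; group) with k | k | k | k
    exacts [(hw1 (by simpa using k)).elim, (hwz (mul_left_cancel (mul_right_cancel (k.trans (hz1 t ht.1).symm)))).elim,
      (h (key' t ht k)).elim, k]
  have two : ∀ s ∈ normalizerIn T R, ∀ t ∈ normalizerIn T R, s ∉ R → t ∉ R → s * t ∈ R := fun s hs t ht h h' =>
    key' _ (mul_mem hs ht) (by
      rw [show s * t * w * (s * t)⁻¹ = s * (t * w * t⁻¹) * s⁻¹ by group, mv t ht h', ← conj_mul, hz1 s hs.1,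
        mv s hs h, mul_self_cancel ((pow_two z).symm.trans hz2)])
  obtain ⟨t, ht, htR⟩ := SetLike.exists_of_lt hR.lt_NS
  obtain ⟨n, hn, h5, ⟨e⟩, h6⟩ := Tz.homo hab
  have he : ∀ x ∈ R, x ^ 2 ^ n = 1 := fun x hx => congrArg Subtype.val (Tri.pow_eq_one e ⟨x, hx⟩)
  obtain rfl | hn := hn.eq_or_lt
  · refine h (PGrp.isMC_of_card_centralizer hTp (fun k => htR (key' t ht (by
      rw [setLike_mul_comm ht.1 (hRT hw), mul_inv_cancel_right]))) ⟨w, hRT hw⟩ ?_)
    rw [← card_map_of_injective T.subtype_injective]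
    refine (card_le_card ?_).trans h5.le
    rintro _ ⟨s, hs, rfl⟩
    exact hR.CS_le ⟨s.2, fun v hv => (mul_inv_eq_iff_eq_mul.1 (hN s s.2 (mul_inv_eq_iff_eq_mul.2
      (congrArg Subtype.val (hs _ rfl)).symm) v hv ((pow_two v).symm.trans (he v hv)))).symm⟩
  obtain ⟨n, rfl⟩ : ∃ k, n = k + 2 := ⟨n - 2, by omega⟩
  obtain ⟨⟨x, hx⟩, h7, h8⟩ := h6 ⟨w, hw⟩ ((orderOf_mk _ _).trans (orderOf_two_iff.2 ⟨hw2, hw1⟩))
  have hNT := NS_le T R
  have := finite_of_le hNT
  have k := congrArg Subtype.val (meta_fix (hTp.to_le hNT) (meta_mono hm hNT) (R := R.subgroupOf _)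
    (fun a ha b hb => Subtype.ext (hc hb a ha)) (fun a ha b hb => two a a.2 b b.2 ha hb)
    (fun a ha => Subtype.ext (he a ha)) (x := ⟨x, le_NS hRT hx⟩) hx ⟨t, ht⟩).eq
  have h9 : x ^ 2 ^ (n + 1) = w := by
    rw [orderOf_mk] at h7
    obtain ⟨i, hi⟩ := mem_zpowers_iff.1 h8
    exact ((mem_zpowers_invol hw2).1 (rk1_of_isCyclic (p := 2) (T := zpowers x) inferInstance w ⟨i, congrArg Subtype.val hi⟩
      _ (pow_mem (mem_zpowers x) _) ((pow_two w).trans hw2) (by rw [← pow_mul, ← pow_succ, he x hx]) hw1)).resolve_left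
      (pow_ne_one_of_lt_orderOf (by positivity) (h7 ▸ Nat.pow_lt_pow_right one_lt_two (by omega)))
  exact htR (key' t ht (mul_inv_eq_iff_eq_mul.2 (h9 ▸ k)))

variable [Fact p.Prime]

theorem normal_of_meta_odd (hF : Sat F p) (h2 : p ≠ 2) (hT : F.StronglyClosed T) (hm : IsMetacyclic T) :
    F.IsNormal T := by
  have := finite_of_le hT.1
  have hTp := hF.pg.to_le hT.1
  by_cases hab : IsMulCommutative T
  · exact hF.normal_of_abelian hT (commutator_eq_bot_iff_le_centralizer.2 (le_centralizer T))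
  obtain ⟨h3, h4⟩ := BG4.Ohm1_metacyclic' (R := (⊤ : Subgroup T)) (hTp.to_subgroup ⊤) h2 (BG4.metacyclic_top.2 hm)
    fun h => hab (isCyclic_of_surjective _ topEquiv.surjective).isMulCommutative
  replace h3 := isElementaryAbelian_map T.subtype h3
  rw [← card_map_of_injective T.subtype_injective] at h4
  rw [map_omegaOne_of_injective T.subtype_injective, ← MonoidHom.range_eq_map, range_subtype] at h3 h4
  obtain ⟨hV, hp⟩ := isElementaryAbelian_iff.1 h3
  set V := omegaOne p T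
  have hVT : V ≤ T := omegaOne_le p T
  have hVS := hVT.trans hT.1
  have := finite_of_le hVS
  have hs : F.StronglyClosed V := sc_iff'.2 ⟨hVS, fun P f hf x hx k => mem_omegaOne (sc_mem hT hf hx (hVT k))
    (by rw [← hf.homOn.map_pow hx, hp x k, hf.homOn.map_one])⟩
  have hn : T ≤ normalizerIn S V := le_inf hT.1 (hT.1.trans (sc_le_normalizer hs))
  refine hF.normal_of_rad hT fun R hR => hR.not_pact_omega h2 ?_
  have hb := AutF_le_Stab_inf hR.le_S (sc_bot F)
  have hv := AutF_le_Stab_inf hR.le_S hs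
  have h0 := pact_bot (F := F) (p := p) hR.le_S hT.1
  by_cases hC : ⁅T, V⁆ = ⊥
  · exact hR.pact_step bot_le hb hv hC.le h0
  have hlt : ∀ N ≤ T, T ≤ normalizer (N : Set Ω) → N ≠ ⊥ → ⁅T, N⁆ < N := fun N hN k k' =>
    lt_of_le_of_ne (commutator_le_right_of_le_normalizer k) fun e =>
      k' (eq_bot_of_le_commutator_of_nilpotent hTp.isNilpotent hN (e.symm.trans (commutator_comm _ _)).le)
  have h5 := hlt V hVT (hn.trans (NS_le_normalizer _ _)) fun e => hC (by rw [e, commutator_bot_right])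
  obtain ⟨z, hz, hz1⟩ := (bot_or_exists_ne_one _).resolve_left hC
  have hZ : zpowers z = ⁅T, V⁆ := eq_of_lt_of_card h4 (by simpa using hz1) (zpowers_le.2 hz) h5
  have h6 : ⁅T, ⁅T, V⁆⁆ = ⊥ := by_contra fun k =>
    have k' := hlt _ (h5.le.trans hVT) (normalizer_commutator_ge_left _ _) hC
    k'.ne (eq_of_lt_of_card h4 k k'.le h5)
  have hzV := h5.le hz
  have hz2 : ∀ t ∈ T, t * z * t⁻¹ = z := fun t ht => by
    rw [(commutator_eq_bot_iff_le_centralizer.1 h6 ht z hz).symm, mul_inv_cancel_right]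
  have hgen : ∀ w ∈ V, w ∉ zpowers z → zpowers z ⊔ zpowers w = V := fun w hw k => by_contra fun e =>
    k (eq_of_lt_of_card h4 (by simpa using hz1) le_sup_left (lt_of_le_of_ne (sup_le (zpowers_le.2 hzV)
      (zpowers_le.2 hw)) e) ▸ mem_sup_right (mem_zpowers w))
  have hmv : ∀ w ∈ V, w ∉ zpowers z → ∃ t ∈ T, t * w * t⁻¹ ≠ w := fun w hw k => by
    by_contra! e
    refine hC (commutator_eq_bot_iff'.2 (hgen w hw k ▸ sup_le (zpowers_le.2 fun t ht => ?_) (zpowers_le.2 fun t ht => ?_)))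
    exacts [mul_inv_eq_iff_eq_mul.1 (hz2 t ht), mul_inv_eq_iff_eq_mul.1 (e t ht)]
  have key : ∀ a ∈ AutF F V, a z ∈ zpowers z := fun a ha => by_contra fun k => by
    have hw := (maps_of_AutF ha).mem hzV
    obtain ⟨σ, hσ, e1, e2⟩ := exists_neg_of_move hVS hn (fun x hx y hy => hV hy x hx) hp hzV hz2 (fun t ht x hx => by
      rw [hZ, commutator_comm]
      simpa [commutatorElement_def, mul_assoc] using commutator_mem_commutator (inv_mem hx) ht) ha (hmv _ hw k)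
      (hmv _ ((maps_of_AutF ha).inv_mem hzV) fun k' => k (by
        obtain ⟨i, hi⟩ := mem_zpowers_iff.1 k'
        rw [zpowers_eq_of_mem (hp _ hw) (y := z) ⟨i, by
          simp only [← (homOn_of_AutF ha).map_zpow hzV, hi, perm_apply_inv]⟩ hz1]
        exact mem_zpowers _))
    have hi : HomOn (fun x : Ω => x⁻¹) V := fun x hx y hy => (mul_inv_rev x y).trans (hV (inv_mem hx) _ (inv_mem hy))
    have e : ∀ x ∈ V, σ x = x⁻¹ := by
      have h := homOn_of_AutF hσ
      rw [← hgen _ hw k] at h hi ⊢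
      refine h.eq_on_sup hi ?_ ?_ <;> rintro _ ⟨i, rfl⟩
      · rw [h.map_zpow (mem_sup_left (mem_zpowers _)), e1, inv_zpow]
      · rw [h.map_zpow (mem_sup_right (mem_zpowers _)), e2, inv_zpow]
    obtain ⟨g, g1, g2⟩ := rec_ext (hF.rec_of_fn (fn_of_sc hs)) (iso_of_AutF hVS hσ) (R := T) fun t ht =>
      mem_Ext.2 ⟨hn ht, t, hT.1 ht, fun x hx => by rw [e _ (conj_mem_of_mem_normalizer (hn ht).2 hx), e x hx]; group⟩
    rw [sup_eq_left.2 hVT] at g1
    have g3 := Iso.res_mem ⟨g1, sc_maps hT g1 le_rfl⟩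
    have := finite_AutF' F hT.1
    obtain ⟨n, g4, g5⟩ := exists_pow_pprime_ext (p := p) (orderOf_ne_zero_of_mem g3) (Nat.Coprime.coprime_dvd_left
      (orderOf_dvd_of_pow_eq_one ((supp_of_AutF (pow_mem hσ 2)).eq_one fun x hx => by
        rw [sq, Perm.mul_apply, e x hx, e _ (inv_mem hx), inv_inv]))
      ((Nat.coprime_primes Nat.prime_two Fact.out).2 h2.symm)) (maps_of_AutF hσ)
      fun x hx => (res_apply (sc_maps hT g1 le_rfl) (hVT hx)).trans (g2 x hx)
    obtain ⟨γ, -, hγ⟩ := pow_mem g3 n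
    rw [← hγ] at g4 g5
    obtain ⟨x, x1, x2, x3⟩ := meta_fixed h2 hTp hm hab (A := zpowers γ) (by rwa [Nat.card_zpowers, ← orderOf_toPerm])
    have x4 := g5 x (mem_omegaOne x.2 (congrArg Subtype.val x2))
    rw [toPerm_coe, x3 γ (mem_zpowers γ), e _ (mem_omegaOne x.2 (congrArg Subtype.val x2))] at x4
    exact h2 ((Nat.prime_dvd_prime_iff_eq Fact.out Nat.prime_two).1 (orderOf_eq_prime x2 x1 ▸
      orderOf_dvd_of_pow_eq_one (Subtype.ext ((pow_two _).trans (mul_eq_one_iff_eq_inv.2 x4)))))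
  have hzR : zpowers z ≤ R := zpowers_le.2 (hR.CS_le ⟨hVT hzV, fun t ht => mul_inv_eq_iff_eq_mul.1 (hz2 t (hR.lt.le ht))⟩)
  have hst : AutF F R ≤ Stab (R ⊓ ⁅T, V⁆) := fun a ha => by
    rw [← hZ, inf_eq_right.2 hzR]
    by_cases hVR : V ≤ R
    · have hm := sc_maps hs (iso_of_AutF hR.le_S ha).mor hVR
      have := finite_of_le (hzR.trans hR.le_S)
      have k := (homOn_of_AutF ha).mono hzR
      refine k.maps_self (img_le_iff.1 ?_)
      rw [k.img_zpowers, zpowers_le, ← res_apply hm hzV]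
      exact key _ (Iso.res_mem ⟨(iso_of_AutF hR.le_S ha).mor.mono hVR, hm⟩)
    · rw [eq_of_lt_of_card h4 (by simpa using hz1) (le_inf hzR (zpowers_le.2 hzV)) (inf_lt_right.2 hVR)]
      exact hv ha
  exact hR.pact_step h5.le hst hv le_rfl (hR.pact_step bot_le hb hst h6.le h0)

omit [Fact p.Prime] in
theorem normal_of_meta_two' (hF : Sat F 2) (hT : F.StronglyClosed T) (hm : IsMetacyclic T)
    (hd : ¬ ∃ m : ℕ, Nonempty (T ≃* DihedralGroup m)) (hq : ¬ ∃ m : ℕ, Nonempty (T ≃* QuaternionGroup m))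
    (hsd : ¬ IsQuasiDihedral T) : F.IsNormal T :=
  normal_of_meta_two hF hT hm fun ⟨_, _, _, h⟩ => h.dqs_cases.elim (fun e => hd ⟨_, e⟩) (·.elim (fun e => hq ⟨_, e⟩) hsd)

omit [Fact p.Prime] in
/-- A metacyclic 2-group that is not of maximal class and not homocyclic of rank two only carries the inner system. -/
theorem inner_of_meta_two (hF : Sat F 2) (hm : IsMetacyclic S) (h : ¬ PGrp.IsMC S)
    (h' : ∀ n, 1 ≤ n → IsEmpty (S ≃* Multiplicative (ZMod (2 ^ n) × ZMod (2 ^ n)))) : F = innerFusionSystem S := by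
  have := finite_AutF' F le_rfl
  refine hF.inner_of_pgroup (normal_of_meta_two hF (sc_S F) hm h) (centric_self F) (isPGroup_of_forall_pow fun a ha => ?_)
  obtain ⟨k, hk⟩ := Transfer.exists_coprime_orderOf_pow (p := 2) a (orderOf_ne_zero_of_mem ha)
  obtain ⟨γ, -, e⟩ := pow_mem ha (2 ^ k)
  rw [← e, orderOf_toPerm] at hk
  refine ⟨k, e ▸ by_contra fun k => ?_⟩
  obtain ⟨hc, a, T⟩ | ⟨h1, -⟩ := meta_odd' hF.pg hm (oddEnd_of_mulAut (Nat.coprime_two_right.1 hk)) (by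
    by_contra! e
    exact k (by rw [show γ = 1 from MulEquiv.ext e, map_one]))
  · obtain ⟨n, h1, -, ⟨e⟩, -⟩ := T.homo hc
    exact (h' n h1).false e
  · exact h h1

end Cfsg.Agent.Fus
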