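import Cfsg.Agent.Fus.Ctl2
import Cfsg.Agent.Fus.Model2
import Cfsg.Agent.SolvStr.Huppert
import Cfsg.Agent.S0206

/-! The fusion system of a group of automorphisms (`exists_autSys`), supersoluble fusion systems (`SS`). -/

set_option autoImplicit false

namespace Cfsg.Agent.Fus

open Subgroup Cfsg.Agent.Loc Equiv
open scoped commutatorElement
open Cfsg.FusionSystem (normalizerIn centralizerIn)

variable {Ω : Type*} [Group Ω] {S T R P : Subgroup Ω} {F : FusionSystem S} {p : ℕ} {A H : Subgroup (Perm Ω)}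

theorem eq_one_of_pow {G : Type*} [Group G] {a : G} (h : (orderOf a).Coprime p) {k : ℕ} (e : a ^ p ^ k = 1) : a = 1 :=
  orderOf_eq_one_iff.1 ((h.pow_right k).eq_one_of_dvd (orderOf_dvd_of_pow_eq_one e))

theorem sylIn_Inn_sup (hS : IsPGroup p S) (hH : H ≤ AutOn S) (hc : (Nat.card H).Coprime p) :
    SylIn p (AutK S S) (AutK S S ⊔ H) := ⟨le_sup_left, isPGroup_AutK hS S, fun Q h1 h2 h3 => le_antisymm (fun q hq => by
  obtain ⟨n, hn, a, ha, rfl⟩ := (mem_sup_of_le_normalizer_left (hH.trans (AutOn_le_normalizer_Inn S))).1 (h1 hq)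
  obtain ⟨k, hk⟩ := exists_pow_of_isPGroup h2 ((mul_mem_cancel_left (h3 hn)).1 hq)
  rwa [eq_one_of_pow (hc.coprime_dvd_left (H.orderOf_dvd_natCard ha)) hk, mul_one]) h3⟩

theorem exists_autSys [Finite S] [Fact p.Prime] (hS : IsPGroup p S) (hA : A ≤ AutOn S) (h : SylIn p (AutK S S) A) :
    ∃ E : FusionSystem S, Sat E p ∧ (∀ P (f : Perm Ω), Mor E P f ↔ P ≤ S ∧ ∃ a ∈ A, ∀ x ∈ P, f x = a x) ∧
      AutF E S = A := by
  have m : ∀ a ∈ A, Maps a S S := fun a ha => AutOn_le_Stab S (hA ha)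
  let E := ofPerm S (fun P f => P ≤ S ∧ ∃ a ∈ A, ∀ x ∈ P, f x = a x)
    (by rintro P f ⟨hP, a, ha, e⟩; exact ⟨hP, fun x hx => e x hx ▸ (m a ha).mem (hP hx)⟩)
    (fun P g hP hg => ⟨hP, _, h.le (cr_mem_AutK hg (le_normalizer hg)), fun x hx =>
      (cr_apply (le_normalizer hg) (hP hx)).symm⟩)
    (by
      rintro P Q f g ⟨hP, a, ha, e⟩ ⟨-, b, hb, e'⟩ hm
      exact ⟨hP, b * a, mul_mem hb ha, fun x hx => by rw [Perm.mul_apply, e' _ (hm x hx), e x hx, Perm.mul_apply]⟩)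
    (by
      rintro P Q f ⟨hP, a, ha, e⟩ hm
      refine ⟨fun y hy => ?_, a⁻¹, inv_mem ha, fun y hy => ?_⟩ <;> obtain ⟨x, hx, rfl⟩ := hm.exists_eq hy
      exacts [e x hx ▸ (m a ha).mem (hP hx), by rw [perm_inv_apply, e x hx, perm_inv_apply]])
  have hE : ∀ P (f : Perm Ω), Mor E P f ↔ P ≤ S ∧ ∃ a ∈ A, ∀ x ∈ P, f x = a x := fun P f => mor_ofPerm'
    (by rintro P f ⟨hP, a, ha, e⟩; exact ((mem_AutOn.1 (hA ha)).1.mono hP).congr e)
    (by rintro P f g ⟨hP, a, ha, e⟩ e'; exact ⟨hP, a, ha, fun x hx => (e' x hx).trans (e x hx)⟩)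
  have hA' : AutF E S = A := by
    ext a
    rw [mem_AutF le_rfl, hE]
    exact ⟨fun ⟨⟨_, b, hb, e⟩, hs⟩ => hs.ext (mem_AutOn.1 (hA hb)).2 e ▸ hb, fun ha =>
      ⟨⟨le_rfl, a, ha, fun _ _ => rfl⟩, (mem_AutOn.1 (hA ha)).2⟩⟩
  refine ⟨E, ⟨hS, sat_of_fa_S hS (fa_iff.2 ⟨le_rfl, hA' ▸ h⟩) fun P hP => rec_iff.2 ⟨hP.1, fun f Q hf => ?_⟩⟩, hE, hA'⟩
  obtain ⟨-, a, ha, e⟩ := (hE _ _).1 hf.mor
  exact ⟨a, (hE _ _).2 ⟨Ext_le_S _ _ _, a, ha, fun _ _ => rfl⟩, fun x hx => (e x hx).symm⟩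

/-- Supersoluble fusion systems. -/
def SS (F : FusionSystem S) : Prop :=
  ∃ (m : ℕ) (c : Fin (m + 1) → Subgroup Ω), c 0 = ⊥ ∧ c (Fin.last m) = S ∧ (∀ i : Fin (m + 1), F.StronglyClosed (c i)) ∧
    ∀ i : Fin m, c i.castSucc ≤ c i.succ ∧ ∃ x ∈ S, c i.succ = c i.castSucc ⊔ zpowers x

def St (F : FusionSystem S) (A B : Subgroup Ω) : Prop := F.StronglyClosed B ∧ ∃ x ∈ S, B = A ⊔ zpowers x

theorem ss_iff : SS F ↔ Relation.ReflTransGen (St F) ⊥ S := by
  constructor
  · rintro ⟨n, c, h0, hl, hn, hs⟩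
    have : ∀ i, Relation.ReflTransGen (St F) ⊥ (c i) := fun i => by
      induction i using Fin.induction with
      | zero => rw [h0]
      | succ i ih => exact ih.tail ⟨hn _, (hs i).2⟩
    exact hl ▸ this _
  · intro h
    have : ∀ A, Relation.ReflTransGen (St F) A S → F.StronglyClosed A → ∃ (n : ℕ) (c : Fin (n + 1) → Subgroup Ω),
        c 0 = A ∧ c (Fin.last n) = S ∧ (∀ i, F.StronglyClosed (c i)) ∧
          ∀ i : Fin n, c i.castSucc ≤ c i.succ ∧ ∃ x ∈ S, c i.succ = c i.castSucc ⊔ zpowers x := by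
      intro A hA
      induction hA using Relation.ReflTransGen.head_induction_on with
      | refl => exact fun h => ⟨0, fun _ => S, rfl, rfl, fun _ => h, fun i => i.elim0⟩
      | @head A B hAB _ ih =>
        obtain ⟨n, c, h0, hl, hn, hs⟩ := ih hAB.1
        refine fun h => ⟨n + 1, Fin.cons A c, rfl, hl, fun i => ?_, fun i => ?_⟩
        · induction i using Fin.cases with
          | zero => exact h
          | succ i => exact hn i
        · induction i using Fin.cases with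
          | zero => obtain ⟨-, x, hx, rfl⟩ := hAB; exact ⟨le_sup_left.trans h0.ge, x, hx, h0⟩
          | succ i => exact hs i
    exact this _ h (sc_bot F)

theorem exists_theta.{u} {Ω : Type u} [Group Ω] {S R : Subgroup Ω} {F : FusionSystem S} (hR : F.StronglyClosed R) :
    ∃ (Q : Type u) (_ : Group Q) (θ : Ω → Q), HomOn θ S ∧
    (∀ x ∈ S, θ x = 1 ↔ x ∈ R) ∧ ∀ x ∈ S, ∀ y ∈ S, x ∈ R ⊔ zpowers y ↔ θ x ∈ zpowers (θ y) := by
  have := normal_subgroupOf_of_sc hR
  have key : ∀ {Q : Type u} [Group Q] {θ : Ω → Q} (h : HomOn θ S), h.pre ⊥ = R → (∀ x ∈ S, θ x = 1 ↔ x ∈ R) ∧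
      ∀ x ∈ S, ∀ y ∈ S, x ∈ R ⊔ zpowers y ↔ θ x ∈ zpowers (θ y) := by
    rintro Q _ θ h rfl
    refine ⟨fun x hx => by rw [h.mem_pre, mem_bot, and_iff_right hx], fun x hx y hy => ?_⟩
    rw [sup_comm, ← h.pre_img (zpowers_le.2 hy), h.mem_pre, and_iff_right hx, (h.mono (zpowers_le.2 hy)).img_zpowers]
  exact ⟨_, _, _, homOn_ext1 _, key _ (qmap_ker hR.1)⟩

variable [Finite S] [Fact p.Prime]

omit [Fact p.Prime] in
theorem rtg_of_step {r : Subgroup Ω → Subgroup Ω → Prop}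
    (h : ∀ R, F.StronglyClosed R → R ≠ S → ∃ B, F.StronglyClosed B ∧ R < B ∧ r R B) : Relation.ReflTransGen r ⊥ S :=
  down_induction (C := fun R => F.StronglyClosed R → Relation.ReflTransGen r R S) (fun R _ ih hR => by
    rcases eq_or_ne R S with e | e
    · rw [e]
    · obtain ⟨B, h1, h2, h3⟩ := h R hR e
      have := finite_of_le h1.1
      exact .head h3 (ih B h1.1 (card_lt_card h2) h1)) ⊥ bot_le (sc_bot F)

omit [Fact p.Prime] in
theorem ss_of_step (h : ∀ R, F.StronglyClosed R → R ≠ S → ∃ x ∈ S, x ∉ R ∧ F.StronglyClosed (R ⊔ zpowers x)) : SS F :=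
  ss_iff.2 (rtg_of_step fun R hR e => let ⟨x, h1, h2, h3⟩ := h R hR e
    ⟨_, h3, le_sup_left.lt_of_ne fun e => h2 (e ▸ mem_sup_right (mem_zpowers x)), h3, x, h1, rfl⟩)

theorem SS.step (h : SS F) (hF : Sat F p) (hR : F.StronglyClosed R) (e : R ≠ S) :
    ∃ x ∈ S, x ∉ R ∧ x ^ p ∈ R ∧ F.StronglyClosed (R ⊔ zpowers x) := by
  have : ∀ B, Relation.ReflTransGen (St F) ⊥ B → B ≤ R ∨ ∃ x ∈ S, x ∉ R ∧ F.StronglyClosed (R ⊔ zpowers x) := by
    intro B hB
    induction hB with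
    | refl => exact .inl bot_le
    | tail _ hAB ih =>
      obtain ⟨h1, x, hx, rfl⟩ := hAB
      refine ih.elim (fun k => (em (x ∈ R)).imp (fun h => sup_le k (zpowers_le.2 h)) fun h => ⟨x, hx, h, ?_⟩) .inr
      have := hF.sc_sup hR h1
      rwa [← sup_assoc, sup_eq_left.2 k] at this
  obtain ⟨x, hx, h1, h2⟩ := (this S (ss_iff.1 h)).resolve_left fun k => e (hR.1.antisymm k)
  obtain ⟨k, h3, h4⟩ := exists_pow_not_mem hF.pg hx h1
  obtain ⟨Q, _, θ, t1, t2, t3⟩ := exists_theta hR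
  have hy := pow_mem hx (p ^ k)
  have ho : orderOf (θ x) = p ^ (k + 1) := orderOf_eq_prime_pow (by rwa [← t1.map_pow hx, t2 _ hy])
    (by rwa [← t1.map_pow hx, t2 _ (pow_mem hx _), pow_succ, pow_mul])
  refine ⟨_, hy, h3, h4, sc_of_perm (sup_le hR.1 (zpowers_le.2 hy)) fun w hw f hf => ?_⟩
  have hw' := hf.le (mem_zpowers w)
  have hf' := hf.mem_S (mem_zpowers w)
  obtain ⟨m, hm⟩ := (t3 _ hf' x hx).1 (sc_mem h2 hf (mem_zpowers w)
    (sup_le_sup_left (zpowers_le.2 (pow_mem (mem_zpowers x) _)) R hw))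
  have : θ (f w) ^ p = 1 := by
    rw [← t1.map_pow hf', t2 _ (pow_mem hf' p), ← hf.homOn.map_pow (mem_zpowers w)]
    refine sc_mem hR hf (pow_mem (mem_zpowers w) p) ((t2 _ (pow_mem hw' p)).1 ?_)
    obtain ⟨i, hi⟩ := (t3 _ hw' _ hy).1 hw
    rw [t1.map_pow hw', ← hi, ← zpow_natCast, ← zpow_mul, mul_comm, zpow_mul, zpow_natCast, ← t1.map_pow hy,
      (t2 _ (pow_mem hy p)).2 h4, one_zpow]
  rw [← hm, ← zpow_natCast, ← zpow_mul, ← orderOf_dvd_iff_zpow_eq_one, ho, pow_succ, Nat.cast_mul,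
    mul_dvd_mul_iff_right (Nat.cast_ne_zero.2 (Fact.out : p.Prime).ne_zero)] at this
  obtain ⟨j, rfl⟩ := this
  exact (t3 _ hf' _ hy).2 ⟨j, by rw [← hm, t1.map_pow hx]; simp only [zpow_mul, zpow_natCast]⟩

theorem SS.ind (h : SS F) (hF : Sat F p) {C : Subgroup Ω → Prop} (h0 : C ⊥) (step : ∀ R B (hle : R ≤ B),
    F.StronglyClosed R → F.StronglyClosed B → (∀ a : Perm Ω, Mor F B a → a ^ (p - 1) ∈ Cen R B hle) →
    (∀ a b : Perm Ω, Mor F B a → Mor F B b → ⁅a, b⁆ ∈ Cen R B hle) → C R → C B) : C S := by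
  have := rtg_of_step (F := F) (r := fun R B => C R → C B) fun R hR e => by
    obtain ⟨x, hx, h1, h2, h3⟩ := h.step hF hR e
    obtain ⟨Q, _, θ, t1, t2, t3⟩ := exists_theta hR
    have hxB : x ∈ R ⊔ zpowers x := mem_sup_right (mem_zpowers x)
    have K : ∀ a : Perm Ω, Mor F (R ⊔ zpowers x) a → ∃ k : ℤ, ∀ c ∈ R ⊔ zpowers x, θ (a c) = θ c ^ k := fun a ha => by
      obtain ⟨k, hk⟩ := (t3 _ (ha.mem_S hxB) x hx).1 ((sc_maps h3 ha le_rfl).mem hxB)
      refine ⟨k, fun c hc => ?_⟩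
      obtain ⟨r, hr, _, ⟨i, rfl⟩, rfl⟩ := (mem_sup_of_le_normalizer_left
        ((zpowers_le.2 hx).trans (sc_le_normalizer hR))).1 hc
      have hr' := (sc_maps hR ha le_sup_left).mem hr
      simp only
      rw [ha.homOn.map_mul (mem_sup_left hr) (zpow_mem hxB i), t1.map_mul (hR.1 hr') (ha.mem_S (zpow_mem hxB i)),
        t1.map_mul (hR.1 hr) (zpow_mem hx i), (t2 _ (hR.1 hr')).2 hr', (t2 _ (hR.1 hr)).2 hr, ha.homOn.map_zpow hxB,
        t1.map_zpow (ha.mem_S hxB), t1.map_zpow hx, ← hk, one_mul, one_mul, ← zpow_mul, ← zpow_mul, mul_comm]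
    have M : ∀ a : Perm Ω, Mor F (R ⊔ zpowers x) a → (∀ c ∈ R ⊔ zpowers x, θ (a c) = θ c) →
        a ∈ Cen R (R ⊔ zpowers x) le_sup_left := fun a ha e => ⟨ha.homOn, sc_maps h3 ha le_rfl,
      sc_maps hR ha le_sup_left, fun c hc => (t2 _ (mul_mem (inv_mem (h3.1 hc)) (ha.mem_S hc))).1 (by
        rw [t1.map_inv_mul (h3.1 hc) (ha.mem_S hc), e c hc, inv_mul_cancel])⟩
    have hp : θ x ^ p = 1 := by rw [← t1.map_pow hx, (t2 _ (pow_mem hx p)).2 h2]
    refine ⟨_, h3, le_sup_left.lt_of_ne fun e => h1 (e ▸ hxB), step _ _ le_sup_left hR h3 (fun a ha => ?_)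
      fun a b ha hb => ?_⟩
    · have ma := sc_maps h3 ha le_rfl
      obtain ⟨k, hk⟩ := K a ha
      have hn : ∀ n : ℕ, ∀ c ∈ R ⊔ zpowers x, θ ((a ^ n) c) = θ c ^ k ^ n := fun n c hc => by
        induction n with
        | zero => simp
        | succ n ih => rw [pow_succ', Perm.mul_apply, hk _ ((ma.pow n).mem hc), ih, ← zpow_mul, pow_succ]
      have hk' : IsCoprime k p := ((Nat.prime_iff_prime_int.1 Fact.out).irreducible.coprime_iff_not_dvd.2 (by
        rintro ⟨j, rfl⟩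
        have := hk x hxB
        rw [zpow_mul, zpow_natCast, hp, one_zpow, t2 _ (ha.mem_S hxB)] at this
        exact h1 (((sc_maps hR ha le_sup_left) x).1 this))).symm
      refine M _ (ha.pow ma _) fun c hc => ?_
      obtain ⟨i, hi⟩ := (t3 _ (h3.1 hc) x hx).1 hc
      rw [hn _ c hc]
      refine (zpow_eq_zpow_iff_modEq.2 ((Int.ModEq.pow_card_sub_one_eq_one Fact.out hk').of_dvd ?_)).trans (zpow_one _)
      rw [Int.natCast_dvd_natCast, orderOf_dvd_iff_pow_eq_one, ← hi, ← zpow_natCast, ← zpow_mul, mul_comm, zpow_mul,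
        zpow_natCast, hp, one_zpow]
    · have ma := sc_maps h3 ha le_rfl
      have mb := sc_maps h3 hb le_rfl
      obtain ⟨k, hk⟩ := K a ha
      obtain ⟨l, hl⟩ := K b hb
      refine M _ (((ha.mul hb fun _ => mb.mem).mul (ha.inv ma) fun _ => ma.inv_mem).mul (hb.inv mb)
        fun _ => mb.inv_mem) fun c hc => ?_
      obtain ⟨d, hd, rfl⟩ := (ma.trans mb).exists_eq hc
      simp only [commutatorElement_def, Perm.mul_apply, perm_inv_apply]
      rw [hk _ (mb.mem hd), hl _ hd, hl _ (ma.mem hd), hk _ hd, ← zpow_mul, ← zpow_mul, mul_comm]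
  exact this.trans_induction_on (motive := fun {A B} _ => C A → C B) (fun _ => id) id (fun _ _ h k => k ∘ h) h0

theorem SS.normal (h : SS F) (hF : Sat F p) : F.IsNormal S :=
  hF.normal_of_pact (sc_S F) fun P hP => have hP' := (hF.ess_lt hP).le
    h.ind hF (C := fun R => PAct p (AutF F P) (AutK S P) (P ⊓ R)) (pact_bot hP' le_rfl) fun R B hle hR hB h1 _ =>
      pact_step hF.pg hP' le_rfl hle (AutF_le_Stab_inf hP' hR) (AutF_le_Stab_inf hP' hB) (commutator_le.2
        fun s hs b hb => by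
      obtain ⟨k, hk⟩ := exists_pow_of_isPGroup hF.pg hs
      have e : cp s ∈ Cen R B hle := mem_of_pow_mem_of_coprime (h1 _ (mor_cp F hB.1 hs))
        ((((Nat.coprime_self_sub_left (Fact.out : p.Prime).one_le).2 (Nat.coprime_one_left p)).pow_right k).symm.coprime_dvd_left
          (orderOf_dvd_of_pow_eq_one (by rw [← map_pow, hk, map_one])))
      simpa [commutatorElement_def, mul_assoc] using R.inv_mem (e.2.2.2 _ (inv_mem hb)))

theorem SS.fix (h : SS F) (hF : Sat F p) {a : Perm Ω} (ha : a ∈ AutF F S) (ho : (orderOf a).Coprime p)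
    (k : ∀ R B (hle : R ≤ B), B ≤ S → (∀ a : Perm Ω, Mor F B a → a ^ (p - 1) ∈ Cen R B hle) →
      (∀ a b : Perm Ω, Mor F B a → Mor F B b → ⁅a, b⁆ ∈ Cen R B hle) → a ∈ Cen R B hle) : a = 1 :=
  (supp_of_AutF ha).eq_one (h.ind hF (C := fun R => ∀ x ∈ R, a x = x)
    (fun x hx => by rw [mem_bot.1 hx, (homOn_of_AutF ha).map_one]) fun R B hle hR hB h1 h2 e =>
      have := k R B hle hB.1 h1 h2
      fix_of_coprime_of_stab ho (hF.pg.to_le hR.1) this.1 this.2.1 hle e this.2.2.2)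

/-- The `p'`-groups of automorphisms are abelian of exponent dividing `p - 1`. -/
def PA (p : ℕ) (G : Type*) [Group G] : Prop :=
  ∀ H : Subgroup (MulAut G), (Nat.card H).Coprime p → IsMulCommutative H ∧ ∀ h ∈ H, h ^ (p - 1) = 1

theorem pa_of_ss (hS : IsPGroup p S) (h : ∀ F : FusionSystem S, F.IsSaturated p → SS F) : PA p S := fun H hH => by
  have hc : (Nat.card (H.map (toPerm S))).Coprime p := by rwa [card_map_of_injective (toPerm_injective S)]
  obtain ⟨E, h1, -, h2⟩ := exists_autSys hS (sup_le (AutK_le_AutOn S S) (map_toPerm_le S H))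
    (sylIn_Inn_sup hS (map_toPerm_le S H) hc)
  have m : ∀ a ∈ H, toPerm S a ∈ AutF E S := fun a ha => h2 ▸ mem_sup_right (mem_map_of_mem _ ha)
  have k := fun a ha => (h E h1.sat).fix h1 (m a ha) (orderOf_toPerm a ▸ hH.coprime_dvd_left (H.orderOf_dvd_natCard ha))
  have m' : ∀ a ∈ H, ∀ B ≤ S, Mor E B (toPerm S a) := fun a ha B hB => (iso_of_AutF le_rfl (m a ha)).mor.mono hB
  refine ⟨⟨⟨fun a b => Subtype.ext (commutatorElement_eq_one_iff_mul_comm.1 (toPerm_injective S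
    ((k _ (commutator_le_self H (commutator_mem_commutator a.2 b.2)) fun R B hle hB _ h2 => ?_).trans (map_one _).symm)))⟩⟩,
    fun a ha => toPerm_injective S ((k _ (pow_mem ha _) fun R B hle hB h2 _ => ?_).trans (map_one _).symm)⟩
  · rw [map_commutatorElement]; exact h2 _ _ (m' _ a.2 B hB) (m' _ b.2 B hB)
  · rw [map_pow]; exact h2 _ (m' _ ha B hB)

theorem SS.inner (h : SS F) (hF : Sat F 2) : F = innerFusionSystem S :=
  hF.eq_inner fun P hP a ha ho x _ => by
    obtain rfl : P = S := hP.elim id fun k => absurd (normal_le_cr hF.pg (h.normal hF) (hF.base_fcr hP).2.1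
      (hF.base_fcr hP).2.2) (hF.ess_lt k).not_ge
    rw [h.fix hF ha ho fun R B hle hB h1 _ => by simpa using h1 a ((iso_of_AutF le_rfl ha).mor.mono hB), Perm.one_apply]

theorem ss_of_aut (hF : Sat F p) (hn : F.IsNormal S) (hc : ∀ a ∈ AutF F S, ∀ b ∈ AutF F S, ⁅a, b⁆ ∈ AutK S S)
    (he : ∀ a ∈ AutF F S, a ^ (p - 1) ∈ AutK S S) : SS F := by
  obtain ⟨G, _, L, M⟩ := hF.exists_model hn (centric_self F)
  have := M.fin
  have hN := M.normal hn
  obtain ⟨ρ, hρ⟩ := M.toReal.exists_rho le_rfl hN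
  have K : ∀ g, ρ g ∈ AutK S S → g ∈ img L S := fun g hg => by
    obtain ⟨s, hs, hs', e⟩ := mem_AutK.1 hg
    rw [← hρ.apply_L M.toReal le_rfl ⟨hs, hs'⟩, ← inv_mul_eq_one, ← map_inv, ← map_mul, ← MonoidHom.mem_ker,
      hρ.ker_eq M.toReal le_rfl] at e
    exact (mul_mem_cancel_left (inv_mem (mem_img_of_mem L hs))).1 (M.centralizer_le hn (centric_self F) e)
  refine ss_of_step fun R hR e => ?_
  have := M.normal (normal_of_normal_of_inv hn hR.1 fun f hf => sc_maps hR hf.mor hR.1)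
  obtain ⟨B, hB, h1, h2, h3⟩ := SolvStr.exists_chief_factor (A := img L R) (C := img L S)
    ((img_mono L hR.1).lt_of_ne fun k => e (M.fiso.img_inj hR.1 le_rfl k))
  have sur := QuotientGroup.mk'_surjective (img L R)
  have := hB.map _ sur
  have := hN.map _ sur
  have := (M.syl.pg.map (QuotientGroup.mk' (img L R))).isNilpotent
  have h4 := SolvStr.minimal_normal_map_mk' h1.le h3
  have h5 := SolvStr.le_centralizer_minimal_normal (N := (img L S).map (QuotientGroup.mk' (img L R))) h4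
  have h6 := SolvStr.isCyclic_of_minimal_normal_of_pow_mem_centralizer (p := p) ((M.syl.pg.to_le h2).map _) h4
    (le_trans (commutator_le.2 fun a _ b _ => by
      obtain ⟨a, rfl⟩ := sur a; obtain ⟨b, rfl⟩ := sur b
      rw [← map_commutatorElement]
      exact mem_map_of_mem _ (K _ (by rw [map_commutatorElement]; exact hc _ (hρ.mem a) _ (hρ.mem b)))) h5)
    fun a => h5 (by
      obtain ⟨a, rfl⟩ := sur a
      rw [← map_pow]
      exact mem_map_of_mem _ (K _ (by rw [map_pow]; exact he _ (hρ.mem a))))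
  obtain ⟨y, hy⟩ := (Subgroup.isCyclic_iff_exists_zpowers_eq_top _).1 h6
  obtain ⟨y, hy', rfl⟩ : y ∈ B.map (QuotientGroup.mk' (img L R)) := hy ▸ mem_zpowers y
  obtain ⟨x, hx, rfl⟩ := M.hom.mem_img.1 (h2 hy')
  have h7 : img L (R ⊔ zpowers x) = B := by
    have := congrArg (comap (QuotientGroup.mk' (img L R))) hy
    rw [← MonoidHom.map_zpowers, comap_map_eq, comap_map_eq, QuotientGroup.ker_mk', sup_eq_left.2 h1.le] at this
    rw [(M.hom.mono (sup_le hR.1 (zpowers_le.2 hx))).img_sup, (M.hom.mono (zpowers_le.2 hx)).img_zpowers, sup_comm, this]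
  refine ⟨x, hx, fun k => h1.ne ?_, sc_of_normal ((M.normal_iff (sup_le hR.1 (zpowers_le.2 hx))).2 (h7 ▸ hB))⟩
  rwa [sup_eq_left.2 (zpowers_le.2 k)] at h7

theorem ss_of_pa (hF : Sat F p) (hn : F.IsNormal S) (h : PA p S) : SS F := by
  have hs := hF.syl_S
  have := finite_AutF F S
  have hI := (AutF_le_AutOn F S).trans (AutOn_le_normalizer_Inn S)
  obtain ⟨k, hk⟩ := hs.pg.exists_card_eq
  have hc := ((Fact.out : p.Prime).coprime_iff_not_dvd.2 hs.not_dvd_relIndex)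
  obtain ⟨B, h1, h2, -, h3⟩ := Solv.exists_complement_in hs.le hI (hk ▸ hc.pow_left k)
  obtain ⟨H, rfl⟩ : ∃ H : Subgroup (MulAut S), H.map (toPerm S) = B :=
    ⟨_, map_comap_eq_self (h1.trans (map_le_range _ _))⟩
  obtain ⟨h4, h5⟩ := h H (by rw [← card_map_of_injective (toPerm_injective S), h3]; exact hc.symm)
  have := normal_subgroupOf_of_le_normalizer hI
  let θ := qmap (AutF F S) (AutK S S)
  have t1 : HomOn θ (AutF F S) := homOn_ext1 _
  have t2 : ∀ a ∈ AutF F S, θ a = 1 ↔ a ∈ AutK S S := fun a ha =>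
    ⟨fun e => qmap_ker hs.le ▸ t1.mem_pre.2 ⟨ha, e⟩, fun e => (t1.mem_pre.1 ((qmap_ker hs.le).ge e)).2⟩
  have K : ∀ a ∈ AutF F S, ∃ b ∈ H, θ a = θ (toPerm S b) := fun a ha => by
    obtain ⟨n, hn, _, ⟨b, hb, rfl⟩, rfl⟩ := (mem_sup_of_le_normalizer_left (h1.trans hI)).1 (h2.ge ha)
    exact ⟨b, hb, by rw [t1.map_mul (hs.le hn) (h1 ⟨b, hb, rfl⟩), (t2 n (hs.le hn)).2 hn, one_mul]⟩
  refine ss_of_aut hF hn (fun a ha b hb => (t2 _ (commutator_le_self _ (commutator_mem_commutator ha hb))).1 ?_)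
    fun a ha => (t2 _ (pow_mem ha _)).1 ?_ <;> obtain ⟨a', ha', e⟩ := K a ha
  · obtain ⟨b', hb', e'⟩ := K b hb
    rw [t1.map_commutatorElement ha hb, e, e', ← t1.map_commutatorElement (h1 ⟨_, ha', rfl⟩) (h1 ⟨_, hb', rfl⟩),
      ← map_commutatorElement, commutatorElement_eq_one_iff_mul_comm.2 (setLike_mul_comm ha' hb'), map_one, t1.map_one]
  · rw [t1.map_pow ha, e, ← t1.map_pow (h1 ⟨_, ha', rfl⟩), ← map_pow, h5 _ ha', map_one, t1.map_one]

theorem ss_inner (hS : IsPGroup p S) : SS (innerFusionSystem S) :=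
  ss_of_aut (sat_inner hS) (normal_inner le_rfl le_normalizer) (fun a ha b hb => by
    rw [AutF_inner le_rfl] at ha hb; exact commutator_le_self _ (commutator_mem_commutator ha hb))
    fun a ha => pow_mem (AutF_inner (S := S) le_rfl ▸ ha) _

/-- Abelian `p`-groups with pairwise distinct invariants. -/
def DI (p : ℕ) (G : Type*) [Group G] : Prop := ∀ m : ℕ, ∃ x : G, x ^ p ^ (m + 1) = 1 ∧
  ∀ y : G, y ^ p ^ (m + 1) = 1 → ∃ (k : ℤ) (w : G), y ^ p ^ m = (x ^ k) ^ p ^ m * w ^ p ^ (m + 1)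

omit [Fact p.Prime] in
theorem DI.congr {G G' : Type*} [Group G] [Group G'] (h : DI p G) (e : G ≃* G') : DI p G' := fun m => by
  obtain ⟨x, h1, h2⟩ := h m
  refine ⟨e x, by rw [← map_pow, h1, map_one], fun y hy => ?_⟩
  obtain ⟨y, rfl⟩ := e.surjective y
  obtain ⟨k, w, h3⟩ := h2 y (by rwa [← map_pow, e.map_eq_one_iff] at hy)
  exact ⟨k, e w, by simpa using congrArg e h3⟩

theorem di_pi {ι : Type*} {a : ι → ℕ} (ha : Function.Injective a) :
    DI p ((i : ι) → Multiplicative (ZMod (p ^ a i))) := fun m => by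
  classical
  have hp : (p : ℤ) ≠ 0 := Nat.cast_ne_zero.2 (Fact.out : p.Prime).ne_zero
  refine ⟨fun i => if a i = m + 1 then .ofAdd 1 else 1, funext fun i => ?_, fun y hy => ?_⟩
  · rw [Pi.pow_apply, Pi.one_apply]
    split_ifs with h
    · rw [← ofAdd_nsmul, ← h, nsmul_one, ZMod.natCast_self, ofAdd_zero]
    · exact one_pow _
  choose n hn using fun i => ZMod.intCast_surjective (y i).toAdd
  have H : ∀ i, a i ≠ m + 1 → ∃ w, y i ^ p ^ m = w ^ p ^ (m + 1) := fun i h => by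
    have e := congrArg Multiplicative.toAdd (congrFun hy i)
    rw [Pi.pow_apply, toAdd_pow, ← hn, nsmul_eq_mul, ← Int.cast_natCast, ← Int.cast_mul, Pi.one_apply, toAdd_one,
      ZMod.intCast_zmod_eq_zero_iff_dvd] at e
    rcases h.lt_or_gt with h | h
    · refine ⟨1, Multiplicative.toAdd.injective ?_⟩
      rw [one_pow, toAdd_pow, nsmul_eq_mul, (ZMod.natCast_eq_zero_iff _ _).2 (pow_dvd_pow p (by omega)), zero_mul,
        toAdd_one]
    · have : (p : ℤ) ^ (m + 1) * p ∣ p ^ (m + 1) * n i := by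
        rw [← pow_succ]; exact (pow_dvd_pow _ h).trans (by exact_mod_cast e)
      obtain ⟨t, ht⟩ := (mul_dvd_mul_iff_left (pow_ne_zero _ hp)).1 this
      refine ⟨.ofAdd t, Multiplicative.toAdd.injective ?_⟩
      simp only [toAdd_pow, ← hn, ht, nsmul_eq_mul, toAdd_ofAdd]
      push_cast; ring
  choose! w hw using H
  refine ⟨if h : ∃ j, a j = m + 1 then n h.choose else 0, fun i => if a i = m + 1 then 1 else w i, funext fun i => ?_⟩
  simp only [Pi.mul_apply, Pi.pow_apply]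
  by_cases h : a i = m + 1
  · have h' : ∃ j, a j = m + 1 := ⟨i, h⟩
    rw [if_pos h, if_pos h, dif_pos h', ha (h'.choose_spec.trans h.symm), one_pow, mul_one, ← ofAdd_zsmul, zsmul_one, hn,
      ofAdd_toAdd]
  · rw [if_neg h, if_neg h, one_zpow, one_pow, one_mul, hw i h]

open scoped IsMulCommutative in
theorem ss_of_di (hF : Sat F p) (hab : IsMulCommutative S) (h : DI p S) : SS F := by
  have hn := hF.normal_S_of_abelian (commutator_eq_bot_iff_le_centralizer.2 fun x hx y hy => setLike_mul_comm hy hx)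
  let U : ℕ → ℕ → Subgroup S := fun i m =>
    (powMonoidHom (p ^ (i + 1))).ker ⊓ (powMonoidHom (p ^ m)).range.comap (powMonoidHom (p ^ i))
  have hU : ∀ {i m u}, u ∈ U i m ↔ u ^ p ^ (i + 1) = 1 ∧ ∃ y, y ^ p ^ m = u ^ p ^ i := Iff.rfl
  have hs : ∀ i m, F.StronglyClosed ((U i m).map S.subtype) := fun i m =>
    have : (U i m).Characteristic := characteristic_iff_le_comap.2 fun φ u hu => by
      obtain ⟨h1, y, h2⟩ := hU.1 hu
      exact hU.2 ⟨by simpa using congrArg φ h1, φ y, by simpa using congrArg φ h2⟩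
    sc_of_normal (normal_char hn _)
  obtain ⟨N, hN'⟩ := hF.pg.exists_card_eq
  have hN : ∀ u : S, u ^ p ^ N = 1 := fun u => hN' ▸ pow_card_eq_one'
  have h1 : ∀ i d, Relation.ReflTransGen (St F) ((U i (i + d)).map S.subtype) ((U i i).map S.subtype) := fun i d => by
    induction d with
    | zero => rfl
    | succ d ih =>
      obtain ⟨x, h1, h2⟩ := h (i + d)
      refine .head ⟨hs _ _, ↑(x ^ p ^ d), SetLike.coe_mem _, ?_⟩ ih
      rw [← S.subtype_apply, ← MonoidHom.map_zpowers, ← Subgroup.map_sup]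
      refine congrArg _ (le_antisymm (fun u hu => ?_) (sup_le (fun u hu => ?_) (zpowers_le.2 (hU.2 ⟨?_, x, ?_⟩))))
      · obtain ⟨h3, y, h4⟩ := hU.1 hu
        obtain ⟨k, w, h5⟩ := h2 y (by rw [pow_succ, pow_mul, h4, ← pow_mul, ← pow_succ, h3])
        have e : ∀ j, ((x ^ p ^ d) ^ k) ^ p ^ j = (x ^ k) ^ p ^ (j + d) := fun j => by
          simp only [← zpow_natCast, ← zpow_mul]; push_cast; ring_nf
        refine mem_sup.2 ⟨u * ((x ^ p ^ d) ^ k)⁻¹, hU.2 ⟨?_, w, ?_⟩, _, ⟨k, rfl⟩, inv_mul_cancel_right _ _⟩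
        · rw [mul_pow, inv_pow, e, h3, add_right_comm, ← zpow_natCast, ← zpow_mul, mul_comm k, zpow_mul, zpow_natCast, h1]
          simp
        · rw [mul_pow, inv_pow, e, ← h4, h5, mul_inv_cancel_comm, add_assoc]
      · obtain ⟨h3, y, h4⟩ := hU.1 hu
        exact hU.2 ⟨h3, y ^ p, by rw [← h4, ← pow_mul, ← pow_succ', add_assoc]⟩
      · rw [← pow_mul, ← pow_add, ← h1]; congr 2; omega
      · rw [← pow_mul, ← pow_add, add_comm]
  have h2 : ∀ i, U i (i + N) = (powMonoidHom (p ^ i)).ker := fun i => by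
    ext u
    refine ⟨fun hu => ?_, fun hu => hU.2 ⟨by rw [pow_succ, pow_mul, show u ^ p ^ i = 1 from hu, one_pow],
      1, (one_pow _).trans hu.symm⟩⟩
    obtain ⟨-, y, h4⟩ := hU.1 hu
    exact h4.symm.trans (by rw [pow_add, pow_mul, hN])
  have h3 : ∀ i, Relation.ReflTransGen (St F) ⊥ ((powMonoidHom (p ^ i)).ker.map S.subtype) := fun i => by
    induction i with
    | zero => rw [(MonoidHom.ker_eq_bot_iff _).2 fun _ _ e => by simpa using e, Subgroup.map_bot]
    | succ i ih => exact ih.trans (by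
      have := h1 i N
      rwa [h2, show U i i = (powMonoidHom (p ^ (i + 1))).ker from inf_eq_left.2 fun u _ => ⟨u, rfl⟩] at this)
  have := h3 N
  rwa [show (powMonoidHom (p ^ N) : S →* S).ker = ⊤ from eq_top_iff.2 fun u _ => hN u, ← MonoidHom.range_eq_map,
    range_subtype, ← ss_iff] at this

omit [Fact p.Prime] in
theorem PA.congr {G G' : Type*} [Group G] [Group G'] (h : PA p G) (e : G ≃* G') : PA p G' := fun H hH => by
  let φ : MulAut G' →* MulAut G := MulAut.congr e.symm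
  have hφ : Function.Injective φ := (MulAut.congr e.symm).injective
  obtain ⟨h1, h2⟩ := h (H.map φ) (by rwa [card_map_of_injective hφ])
  exact ⟨⟨⟨fun a b => Subtype.ext (hφ (by
    simpa only [map_mul, coe_mul] using setLike_mul_comm (mem_map_of_mem φ a.2) (mem_map_of_mem φ b.2)))⟩⟩,
    fun a ha => hφ (by simpa only [map_pow, map_one] using h2 _ (mem_map_of_mem φ ha))⟩

theorem not_pa' {Z : Type*} [CommGroup Z] [Finite Z] {g : Z} (hg : g ≠ 1) (hg' : p ≠ 2 → g⁻¹ ≠ g) (H : Type*)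
    [CommGroup H] [Finite H] : ¬ PA p ((Z × Z) × H) := fun h => by
  have hp : p.Prime := Fact.out
  rcases eq_or_ne p 2 with rfl | h2
  · let r : MulAut ((Z × Z) × H) := MulEquiv.prodCongr
      { toFun := fun x => (x.2, (x.1 * x.2)⁻¹), invFun := fun x => ((x.1 * x.2)⁻¹, x.1),
        left_inv := fun x => by simp, right_inv := fun x => by simp [mul_comm],
        map_mul' := fun x y => by simp [mul_comm, mul_left_comm, mul_assoc] } (.refl H)
    have h3 : r ^ 3 = 1 := by ext x <;> simp [r, pow_succ, MulEquiv.prodCongr, mul_comm]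
    have := (h (zpowers r) (by
      rw [Nat.card_zpowers]; exact Nat.Coprime.coprime_dvd_left (orderOf_dvd_of_pow_eq_one h3) (by norm_num))).2 r
      (mem_zpowers r)
    exact hg (congrArg (fun a : MulAut _ => (a ((g, 1), 1)).1.1) this).symm
  · let s : MulAut ((Z × Z) × H) := MulEquiv.prodCongr .prodComm (.refl H)
    let t : MulAut ((Z × Z) × H) := MulEquiv.prodCongr (.prodCongr (.inv Z) (.refl Z)) (.refl H)
    replace hg' := hg' h2
    obtain ⟨e⟩ := S0206.result s t (orderOf_eq_prime (by ext x <;> rfl)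
      fun e => hg (congrArg (fun a : MulAut _ => (a ((g, 1), 1)).1.2) e))
      (orderOf_eq_prime (by ext x <;> simp [t, sq, MulEquiv.prodCongr])
        fun e => hg' (congrArg (fun a : MulAut _ => (a ((g, 1), 1)).1.1) e))
      fun e => hg (congrArg (fun a : MulAut _ => (a ((g, 1), 1)).1.2) e)
    have h4 : (s * t) ^ 4 = 1 := by ext x <;> simp [s, t, pow_succ, MulEquiv.prodCongr]
    have := (h (closure {s, t}) (by
      rw [Nat.card_congr e.toEquiv, DihedralGroup.nat_card]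
      exact (((Nat.coprime_primes Nat.prime_two hp).2 h2.symm).pow_left 3).coprime_dvd_left
        (Nat.mul_dvd_mul_left 2 (orderOf_dvd_of_pow_eq_one h4)))).1
    exact hg' (congrArg (fun a : MulAut _ => (a ((g, 1), 1)).1.2) (setLike_mul_comm (s := closure {s, t})
      (subset_closure (Or.inl rfl)) (subset_closure (Or.inr rfl))))

theorem not_pa {n : ℕ} (hn : 0 < n) (H : Type*) [CommGroup H] [Finite H] :
    ¬ PA p ((Multiplicative (ZMod (p ^ n)) × Multiplicative (ZMod (p ^ n))) × H) :=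
  have hp : p.Prime := Fact.out
  have : Fact (1 < p ^ n) := ⟨Nat.one_lt_pow hn.ne' hp.one_lt⟩
  not_pa' (g := .ofAdd 1) (fun e => one_ne_zero (α := ZMod (p ^ n)) e) (fun h2 e => by
    have : ((2 : ℕ) : ZMod (p ^ n)) = 0 := by
      rw [Nat.cast_ofNat, ← one_add_one_eq_two]; exact neg_eq_iff_add_eq_zero.1 (congrArg Multiplicative.toAdd e)
    exact h2 ((Nat.prime_dvd_prime_iff_eq hp Nat.prime_two).1
      ((dvd_pow_self p hn.ne').trans ((ZMod.natCast_eq_zero_iff _ _).1 this)))) H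

open scoped IsMulCommutative in
theorem di_or {G : Type*} [Group G] [Finite G] (hG : IsPGroup p G) (hab : IsMulCommutative G) : DI p G ∨
    ∃ (n : ℕ) (H : Type) (_ : CommGroup H), 0 < n ∧
      Nonempty (G ≃* (Multiplicative (ZMod (p ^ n)) × Multiplicative (ZMod (p ^ n))) × H) := by
  classical
  obtain ⟨ι, _, n, h1, ⟨e⟩⟩ := CommGroup.equiv_prod_multiplicative_zmod_of_finite G
  have : ∀ i, ∃ a, n i = p ^ a := fun i => by
    have := NeZero.of_gt (h1 i)
    simpa using ((hG.of_equiv e).of_surjective (Pi.evalMonoidHom _ i) (Function.surjective_eval i)).exists_card_eq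
  choose a ha using this
  obtain rfl : n = fun i => p ^ a i := funext ha
  refine (em (Function.Injective a)).imp (fun h => (di_pi h).congr e.symm) fun h => ?_
  obtain ⟨i, j, h2, h3⟩ := Function.not_injective_iff.1 h
  let Z := fun i => Multiplicative (ZMod (p ^ a i))
  let e1 : ((k : ι) → Z k) ≃* Z i × ((k : {k // k ≠ i}) → Z k) := { Equiv.piSplitAt i Z with map_mul' := fun _ _ => rfl }
  let e2 : ((k : {k // k ≠ i}) → Z k) ≃* Z j × ((k : {k : {k // k ≠ i} // k ≠ ⟨j, h3.symm⟩}) → Z k) :=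
    { Equiv.piSplitAt (⟨j, h3.symm⟩ : {k // k ≠ i}) (fun k => Z k) with map_mul' := fun _ _ => rfl }
  have e3 : Z j ≃* Z i := (ZMod.ringEquivCongr (congrArg (p ^ ·) h2.symm)).toAddEquiv.toMultiplicative
  exact ⟨a i, _, inferInstance, Nat.pos_of_ne_zero fun k => by simpa [k] using h1 i,
    ⟨e.trans (e1.trans ((MulEquiv.prodCongr (.refl _) (e2.trans (.prodCongr e3 (.refl _)))).trans
      MulEquiv.prodAssoc.symm))⟩⟩

end Cfsg.Agent.Fus
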